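import Mathlib
import Groth.Prelude.Def_W4c5algebraiztannakaNis
import Groth.Agent.ConsSet.Basic

/-!
Nisnevich covers of bounded length: a recursive form of the flag, base change, composition,
and the cover by finitely many quasi-compact opens.
-/

set_option autoImplicit false

universe u

open CategoryTheory CategoryTheory.Limits AlgebraicGeometry Topology Set W4c5algebraiztannaka

namespace Groth.Agent.NisCoverLib

variable {U Y : Scheme.{u}}

/-- A flag of length `n` from `A` to `B` with sections of `f` over the steps. -/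
def Flag (f : U ⟶ Y) : ℕ → Set Y → Set Y → Prop
  | 0, A, B => A = B
  | n + 1, A, B => ∃ C, Flag f n A C ∧ C ⊆ B ∧ IsClosed B ∧ IsConstructible B ∧
      HasSectOver f (B \ C)

theorem Flag.concat {f : U ⟶ Y} {a : ℕ} {A B : Set Y} (h : Flag f a A B) :
    ∀ {b : ℕ} {C : Set Y}, Flag f b B C → Flag f (a + b) A C
  | 0, _, hb => by cases hb; exact h
  | _ + 1, _, ⟨D, hD, r⟩ => ⟨D, h.concat hD, r⟩

theorem Flag.prop {f : U ⟶ Y} {A : Set Y} (hA : IsClosed A ∧ IsConstructible A) :
    ∀ {n : ℕ} {B : Set Y}, Flag f n A B → A ⊆ B ∧ IsClosed B ∧ IsConstructible B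
  | 0, _, h => by cases h; exact ⟨subset_rfl, hA⟩
  | _ + 1, _, ⟨_, hC, hCB, h₁, h₂, _⟩ => ⟨(hC.prop hA).1.trans hCB, h₁, h₂⟩

theorem flag_of_isNisCoverLen {f : U ⟶ Y} {m : ℕ} (h : IsNisCoverLen f m) :
    Flag f m ∅ univ := by
  obtain ⟨Z, h0, hl, hm, hc, hs⟩ := h.flag
  have key : ∀ (k : ℕ) (hk : k < m + 1), Flag f k ∅ (Z ⟨k, hk⟩) := by
    intro k
    induction k with
    | zero => intro hk; exact h0.symm
    | succ k ih =>
      intro hk
      exact ⟨_, ih (by omega), hm (show (⟨k, by omega⟩ : Fin (m + 1)) ≤ ⟨k + 1, hk⟩ by simp),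
        (hc _).1, (hc _).2, hs ⟨k, by omega⟩⟩
  have := key m (by omega)
  rwa [show (⟨m, by omega⟩ : Fin (m + 1)) = Fin.last m from rfl, hl] at this

theorem exists_chain {f : U ⟶ Y} {A : Set Y} (hA : IsClosed A ∧ IsConstructible A) :
    ∀ {n : ℕ} {B : Set Y}, Flag f n A B → ∃ Z : Fin (n + 1) → Set Y, Z 0 = A ∧
      Z (Fin.last n) = B ∧ Monotone Z ∧ (∀ k, IsClosed (Z k) ∧ IsConstructible (Z k)) ∧
        ∀ k : Fin n, HasSectOver f (Z k.succ \ Z k.castSucc)
  | 0, _, h => by
    cases h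
    exact ⟨fun _ ↦ A, rfl, rfl, monotone_const, fun _ ↦ hA, fun k ↦ k.elim0⟩
  | n + 1, B, ⟨C, hC, hCB, h₁, h₂, hs⟩ => by
    obtain ⟨Z, h0, hl, hm, hc, hsec⟩ := exists_chain hA hC
    refine ⟨Fin.snoc Z B, ?_, Fin.snoc_last _ _, ?_, ?_, ?_⟩
    · rw [show (0 : Fin (n + 1 + 1)) = Fin.castSucc 0 from rfl, Fin.snoc_castSucc, h0]
    · refine Fin.monotone_iff_le_succ.2 fun i ↦ ?_
      induction i using Fin.lastCases with
      | last => rw [Fin.snoc_castSucc, Fin.succ_last, Fin.snoc_last, hl]; exact hCB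
      | cast i =>
        rw [Fin.snoc_castSucc, Fin.succ_castSucc, Fin.snoc_castSucc]
        exact hm (Fin.castSucc_le_succ i)
    · intro k
      induction k using Fin.lastCases with
      | last => rw [Fin.snoc_last]; exact ⟨h₁, h₂⟩
      | cast k => rw [Fin.snoc_castSucc]; exact hc k
    · intro i
      induction i using Fin.lastCases with
      | last => rw [Fin.snoc_castSucc, Fin.succ_last, Fin.snoc_last, hl]; exact hs
      | cast i => rw [Fin.snoc_castSucc, Fin.succ_castSucc, Fin.snoc_castSucc]; exact hsec i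

theorem isNisCoverLen_of_flag {f : U ⟶ Y} {m : ℕ} (he : Etale f) (h : Flag f m ∅ univ) :
    IsNisCoverLen f m :=
  ⟨he, exists_chain ⟨isClosed_empty, IsConstructible.empty⟩ h⟩

theorem isCompact_compl [CompactSpace Y] [QuasiSeparatedSpace Y] {Z : Set Y}
    (hZ : IsConstructible Z) : IsCompact Zᶜ :=
  (ConsSet.isRetrocompact hZ.compl).isCompact

theorem isConstructible_of_compl [CompactSpace Y] [QuasiSeparatedSpace Y] {Z : Set Y}
    (hZ : IsClosed Z) (hc : IsCompact Zᶜ) : IsConstructible Z :=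
  (hc.isConstructible hZ.isOpen_compl).of_compl

theorem preimage_closed_constructible {Y' : Scheme.{u}} (g : Y' ⟶ Y) [CompactSpace Y']
    [QuasiSeparatedSpace Y'] [CompactSpace Y] [QuasiSeparatedSpace Y] {Z : Set Y}
    (hc : IsClosed Z) (hZ : IsConstructible Z) :
    IsClosed (g ⁻¹' Z) ∧ IsConstructible (g ⁻¹' Z) :=
  ⟨hc.preimage g.continuous, isConstructible_of_compl (hc.preimage g.continuous)
    (QuasiCompact.isCompact_preimage (f := g) _ hc.isOpen_compl (isCompact_compl hZ))⟩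

theorem flag_baseChange {Y' : Scheme.{u}} (f : U ⟶ Y) (g : Y' ⟶ Y) [CompactSpace Y']
    [QuasiSeparatedSpace Y'] [CompactSpace Y] [QuasiSeparatedSpace Y] :
    ∀ {n : ℕ} {A B : Set Y}, Flag f n A B →
      Flag (pullback.snd f g) n (g ⁻¹' A) (g ⁻¹' B)
  | 0, _, _, h => by cases h; exact rfl
  | _ + 1, _, B, ⟨C, hC, hCB, h₁, h₂, T, i, s, hi, hr, hs⟩ => by
    refine ⟨_, flag_baseChange f g hC, preimage_mono hCB,
      (preimage_closed_constructible g h₁ h₂).1, (preimage_closed_constructible g h₁ h₂).2,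
      pullback g i, pullback.fst g i,
      pullback.lift (pullback.snd g i ≫ s) (pullback.fst g i)
        (by rw [Category.assoc, hs, pullback.condition]), ?_, ?_, pullback.lift_snd _ _ _⟩
    · have := hi; infer_instance
    · exact (Scheme.Pullback.range_fst g i).trans (by rw [hr, preimage_sdiff])

theorem baseChange {Y' : Scheme.{u}} {f : U ⟶ Y} (g : Y' ⟶ Y) [CompactSpace Y']
    [QuasiSeparatedSpace Y'] [CompactSpace Y] [QuasiSeparatedSpace Y] {m : ℕ}
    (h : IsNisCoverLen f m) : IsNisCoverLen (pullback.snd f g) m := by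
  refine isNisCoverLen_of_flag (by have := h.etale; infer_instance) ?_
  simpa using flag_baseChange f g (flag_of_isNisCoverLen h)

section Comp

variable {Y₁ Y₂ Y₃ : Scheme.{u}} (g₁ : Y₁ ⟶ Y₂) (g₂ : Y₂ ⟶ Y₃)

theorem flag_transport [CompactSpace Y₂] [QuasiSeparatedSpace Y₂] [CompactSpace Y₃]
    [QuasiSeparatedSpace Y₃] {A B : Set Y₃} (hA : IsClosed A ∧ IsConstructible A)
    (hB : IsClosed B ∧ IsConstructible B) (hAB : A ⊆ B) {T : Scheme.{u}} (i : T ⟶ Y₃)
    (s : T ⟶ Y₂) [IsImmersion i] (hr : Set.range i = B \ A) (hs : s ≫ g₂ = i) :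
    ∀ {n : ℕ} {D : Set Y₂}, Flag g₁ n ∅ D →
      Flag (g₁ ≫ g₂) n A (A ∪ i '' (s ⁻¹' D))
  | 0, _, h => by cases h; simp [Flag]
  | n + 1, D, ⟨C, hC, hCD, h₁, h₂, T', j, t, hj, hjr, ht⟩ => by
    have hemb := i.isEmbedding
    have hAc : IsCompact Aᶜ := isCompact_compl hA.2
    have hBAc : IsCompact (B \ A) := by
      rw [sdiff_eq]; exact hAc.inter_left hB.1
    have : CompactSpace T := by
      rw [← isCompact_univ_iff, hemb.isCompact_iff, image_univ, hr]; exact hBAc
    have hDc : IsCompact (s ⁻¹' Dᶜ) :=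
      QuasiCompact.isCompact_preimage (f := s) _ h₁.isOpen_compl (isCompact_compl h₂)
    -- closedness
    have hsub : i '' (s ⁻¹' D) ⊆ B \ A := by rw [← hr]; exact image_subset_range _ _
    have hcl : IsClosed (A ∪ i '' (s ⁻¹' D)) := by
      obtain ⟨K, hK, hKD⟩ := hemb.isInducing.isClosed_iff.1 (h₁.preimage s.continuous)
      have : A ∪ i '' (s ⁻¹' D) = A ∪ (B ∩ K) := by
        rw [← hKD, image_preimage_eq_inter_range, hr]
        ext x
        by_cases hx : x ∈ A <;> simp [hx, and_comm]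
      rw [this]
      exact hA.1.union (hB.1.inter hK)
    have hco : IsConstructible (A ∪ i '' (s ⁻¹' D)) := by
      refine isConstructible_of_compl hcl ?_
      have e : (A ∪ i '' (s ⁻¹' D))ᶜ = Bᶜ ∪ i '' (s ⁻¹' Dᶜ) := by
        ext x
        simp only [mem_compl_iff, mem_union, not_or]
        constructor
        · rintro ⟨hxA, hxD⟩
          by_cases hxB : x ∈ B
          · obtain ⟨y, rfl⟩ : x ∈ Set.range i := by rw [hr]; exact ⟨hxB, hxA⟩
            exact Or.inr ⟨y, fun h ↦ hxD ⟨y, h, rfl⟩, rfl⟩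
          · exact Or.inl hxB
        · rintro (hxB | ⟨y, hy, rfl⟩)
          · exact ⟨fun h ↦ hxB (hAB h), fun h ↦ hxB (hsub h).1⟩
          · have : i y ∈ B \ A := by rw [← hr]; exact mem_range_self y
            refine ⟨this.2, ?_⟩
            rintro ⟨y', hy', he⟩
            exact hy (hemb.injective he ▸ hy')
      rw [e]
      exact (isCompact_compl hB.2).union (hDc.image i.continuous)
    refine ⟨_, flag_transport hA hB hAB i s hr hs hC, ?_, hcl, hco,
      pullback s j, pullback.fst s j ≫ i, pullback.snd s j ≫ t, ?_, ?_, ?_⟩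
    · exact union_subset_union_right _ (image_mono (preimage_mono hCD))
    · have := hj
      infer_instance
    · have hfst : Set.range (pullback.fst s j) = s ⁻¹' (D \ C) := by
        rw [← hjr]; exact Scheme.Pullback.range_fst s j
      have : Set.range (fun x ↦ (pullback.fst s j ≫ i) x) = i '' (s ⁻¹' (D \ C)) := by
        rw [← hfst, ← range_comp]; rfl
      rw [this, preimage_sdiff, image_sdiff hemb.injective]
      ext x
      constructor
      · rintro ⟨h, h'⟩
        exact ⟨Or.inr h, fun hh ↦ hh.elim (hsub h).2 h'⟩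
      · rintro ⟨h | h, h'⟩
        · exact absurd (Or.inl h) h'
        · exact ⟨h, fun hh ↦ h' (Or.inr hh)⟩
    · calc (pullback.snd s j ≫ t) ≫ g₁ ≫ g₂ = pullback.snd s j ≫ (t ≫ g₁) ≫ g₂ := by simp
        _ = (pullback.snd s j ≫ j) ≫ g₂ := by rw [ht, Category.assoc]
        _ = (pullback.fst s j ≫ s) ≫ g₂ := by rw [pullback.condition]
        _ = pullback.fst s j ≫ i := by rw [Category.assoc, hs]

theorem flag_comp [CompactSpace Y₂] [QuasiSeparatedSpace Y₂] [CompactSpace Y₃]
    [QuasiSeparatedSpace Y₃] {m₁ : ℕ} (h₁ : Flag g₁ m₁ ∅ univ) {A : Set Y₃}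
    (hA : IsClosed A ∧ IsConstructible A) :
    ∀ {n : ℕ} {B : Set Y₃}, Flag g₂ n A B → Flag (g₁ ≫ g₂) (n * m₁) A B
  | 0, _, h => by cases h; rw [Nat.zero_mul]; exact rfl
  | n + 1, B, ⟨C, hC, hCB, hBcl, hBco, T, i, s, hi, hr, hs⟩ => by
    have hCp := hC.prop hA
    have step := flag_transport g₁ g₂ hCp.2 ⟨hBcl, hBco⟩ hCB i s hr hs h₁
    rw [preimage_univ, image_univ, show Set.range i = B \ C from hr, union_sdiff_cancel hCB] at step
    rw [Nat.succ_mul]
    exact (flag_comp h₁ hA hC).concat step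

theorem comp [CompactSpace Y₂] [QuasiSeparatedSpace Y₂] [CompactSpace Y₃]
    [QuasiSeparatedSpace Y₃] {m₁ m₂ : ℕ} (h₁ : IsNisCoverLen g₁ m₁) (h₂ : IsNisCoverLen g₂ m₂) :
    IsNisCoverLen (g₁ ≫ g₂) (m₁ * m₂) := by
  refine isNisCoverLen_of_flag ?_ ?_
  · have := h₁.etale; have := h₂.etale; infer_instance
  · rw [Nat.mul_comm]
    exact flag_comp g₁ g₂ (flag_of_isNisCoverLen h₁) ⟨isClosed_empty, IsConstructible.empty⟩
      (flag_of_isNisCoverLen h₂)

end Comp

section Opens

variable {X : Scheme.{u}} [CompactSpace X] [QuasiSeparatedSpace X] {k : ℕ}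
  (V : Fin k → X.Opens)

/-- The union of the opens with index at least `n`. -/
def tail (n : ℕ) : Set X := ⋃ i ∈ {i : Fin k | n ≤ (i : ℕ)}, (V i : Set X)

theorem flag_opens (hV : ∀ i, IsCompact (V i : Set X)) (hcov : ⨆ i, V i = ⊤) :
    ∀ n, n ≤ k → Flag (Sigma.desc fun i => (V i).ι) n ∅ (tail V n)ᶜ
  | 0, _ => by
    have : tail V 0 = univ := by
      refine eq_univ_of_forall fun x ↦ ?_
      have hx : x ∈ ⨆ i, V i := by rw [hcov]; trivial
      obtain ⟨i, hi⟩ := TopologicalSpace.Opens.mem_iSup.1 hx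
      exact mem_biUnion (show i ∈ {i : Fin k | 0 ≤ (i : ℕ)} from Nat.zero_le _) hi
    simp [Flag, this]
  | n + 1, hn => by
    have hop : ∀ n, IsOpen (tail V n) := fun n ↦ isOpen_biUnion fun i _ ↦ (V i).isOpen
    have hcp : IsCompact (tail V (n + 1)) :=
      (Set.toFinite _).isCompact_biUnion fun i _ ↦ hV i
    have hcl : IsClosed (tail V (n + 1))ᶜ := (hop _).isClosed_compl
    refine ⟨_, flag_opens hV hcov n (by omega), ?_, hcl,
      isConstructible_of_compl hcl (by rwa [compl_compl]), ?_⟩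
    · refine compl_subset_compl.2 (biUnion_subset_biUnion_left fun i hi ↦ ?_)
      simp only [mem_setOf_eq] at hi ⊢; omega
    let i₀ : Fin k := ⟨n, by omega⟩
    let Z : TopologicalSpace.Closeds (V i₀ : Scheme.{u}) :=
      ⟨(V i₀).ι ⁻¹' (tail V (n + 1))ᶜ, hcl.preimage (V i₀).ι.continuous⟩
    let I := Scheme.IdealSheafData.vanishingIdeal Z
    refine ⟨I.subscheme, I.subschemeι ≫ (V i₀).ι,
      I.subschemeι ≫ Sigma.ι (fun i => ((V i : X.Opens) : Scheme.{u})) i₀, ?_, ?_, ?_⟩
    · infer_instance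
    · have hr : Set.range I.subschemeι = (Z : Set _) := by
        rw [I.range_subschemeι, Scheme.IdealSheafData.coe_support_vanishingIdeal]
      have : Set.range (fun x ↦ (I.subschemeι ≫ (V i₀).ι) x) = (V i₀).ι '' (Z : Set _) := by
        rw [← hr, ← range_comp]; rfl
      rw [this]
      show (V i₀).ι '' ((V i₀).ι ⁻¹' (tail V (n + 1))ᶜ) = _
      rw [image_preimage_eq_inter_range, Scheme.Opens.range_ι]
      ext x
      simp only [mem_inter_iff, mem_compl_iff, mem_sdiff, not_not, tail, mem_iUnion,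
        mem_setOf_eq, exists_prop, SetLike.mem_coe]
      constructor
      · rintro ⟨h, hx⟩
        exact ⟨h, i₀, le_refl _, hx⟩
      · rintro ⟨h, j, hj, hx⟩
        refine ⟨h, ?_⟩
        rcases Nat.lt_or_eq_of_le hj with hlt | heq
        · exact absurd ⟨j, hlt, hx⟩ h
        · rwa [show i₀ = j from Fin.ext heq]
    · rw [Category.assoc, Sigma.ι_desc]

theorem opens (hV : ∀ i, IsCompact (V i : Set X)) (hcov : ⨆ i, V i = ⊤) :
    IsNisCoverLen (Sigma.desc fun i => (V i).ι) k := by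
  have : IsZariskiLocalAtSource (@Etale.{u}) :=
    HasRingHomProperty.instIsZariskiLocalAtSource (Q := RingHom.Etale)
  refine isNisCoverLen_of_flag (IsZariskiLocalAtSource.sigmaDesc (P := @Etale) fun _ ↦ inferInstance) ?_
  have : tail V k = ∅ := by
    refine eq_empty_of_forall_notMem fun x hx ↦ ?_
    simp only [tail, mem_iUnion, mem_setOf_eq] at hx
    obtain ⟨i, hi, -⟩ := hx
    exact absurd i.isLt (by omega)
  simpa [this] using flag_opens V hV hcov k le_rfl

end Opens

end Groth.Agent.NisCoverLib
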